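import Cfsg.Agent.H246.Dl.KType
import Cfsg.Agent.H115.HC.RgdCusp
import Cfsg.Agent.H35.Poin

/-!
# Harish-Chandra types of rank at most one (helper519, for S4769)

`R` a root group datum with commutative torus.

* `exists_HT_single` : there is a character of Harish-Chandra type `{i}`;
* `card_PJ_single` : `|P_{i}| = (1 + |X_i|) |U| |T|`;
* `HT.empty` : a character with `U`-fixed vectors has type `∅`;
* `many_two_nodes` : two nodes with root groups of different orders and a character with `U`-fixed vectors give three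
  characters.
-/

set_option autoImplicit false
set_option linter.unusedSectionVars false

open scoped ComplexConjugate
open Cfsg

namespace Cfsg.Agent.H519.Dl

open Cfsg.Agent.OddOrderCharacters.Clifford Cfsg.Agent.Characters
open CoxeterSystem Cfsg.Agent.ChevalleyStructure.CoxeterGeom Cfsg.Agent.Tits.Roots Cfsg.Agent.Tits.Core
  Cfsg.Agent.Tits.Exchange Cfsg.Agent.Nodes.Reps Cfsg.Agent.Nodes.BNOf Cfsg.Agent.Nodes.StabComb
  Cfsg.Agent.Nodes.Bruhat Cfsg.Agent.Nodes.OppDec Cfsg.Agent.Nodes.LeviDec Cfsg.Agent.H53.HC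
  Cfsg.Agent.H246.Dl Cfsg.Agent.H115.HC

variable {I W Y : Type*} [Fintype I] [DecidableEq I] [Group W] [Group Y] {M : CoxeterMatrix I}
  {cs : CoxeterSystem M W} {A : I → I → ℤ} {h : IsCartan M A} {r : ℕ} {T : Subgroup Y} {n : I → Y}
  {X : (I → ℤ) → Subgroup Y}

theorem VJ_empty : VJ cs h X ∅ = RGD.Sup X (RGD.Pos cs h) := by
  unfold VJ
  congr 1
  ext x
  constructor
  · exact fun hx => ⟨hx.1, hx.2.1⟩
  · intro hx
    obtain ⟨k, hk⟩ : ∃ k, 0 < x k := by
      by_contra hcon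
      push Not at hcon
      exact hx.1.ne_zero (funext fun i => le_antisymm (hcon i) (hx.2 i))
    exact ⟨hx.1, hx.2, k, Set.notMem_empty k, hk⟩

/-- a character with `U`-fixed vectors has type `∅` -/
theorem HT.empty {χ : Y → ℂ} (hχ : IsIrrCharacter Y χ) (hf : HasFix χ (RGD.Sup X (RGD.Pos cs h))) :
    HT cs h X χ ∅ := by
  refine ⟨hχ, ?_, fun J _ => ⟨1, fun i hi => absurd hi (Set.notMem_empty i)⟩⟩
  rw [VJ_empty]
  exact hf

variable (R : RGD cs h r T n X)

include R

/-- **Characters of type `{i}`** -/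
theorem exists_HT_single [Finite W] [Finite Y] (hG : GG cs h T X = ⊤) (hTc : ∀ a ∈ T, ∀ b ∈ T, a * b = b * a) (i : I)
    (hU : 2 ≤ Nat.card (X (sr i))) : ∃ χ : Y → ℂ, HT cs h X χ {i} := by
  classical
  have : Fintype Y := Fintype.ofFinite Y
  have : Fintype (PJ cs h T X {i}) := Fintype.ofFinite _
  obtain ⟨ψ, hψ, hψc, -⟩ := exists_psi R hTc i hU 1
  obtain ⟨ψ', hψ', hψL, hψV⟩ := exists_infl R {i} hψ
  have hc : ∀ k ∈ ({i} : Set I), ∀ [Fintype (rad cs h X {i} k)],
      ∑ u : rad cs h X {i} k, ψ' ⟨u, rad_le_PJ {i} k u.2⟩ = 0 := by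
    intro k hk hf
    obtain rfl : k = i := hk
    have hf' : Fintype ((X (sr k)).subgroupOf (LJ cs h T X {k})) := Fintype.ofFinite _
    rw [← hψc]
    refine Fintype.sum_equiv ((MulEquiv.subgroupCongr (rad_single k)).trans
      (Subgroup.subgroupOfEquivOfLe (X_le_LJ_single (T := T) k)).symm).toEquiv _ _ fun u => ?_
    rw [← hψL]
    rfl
  obtain ⟨χ, hχ, hne⟩ := Cfsg.Agent.CharDeep.PowerDegrees.exists_irr_over (PJ cs h T X {i}) hψ'
  exact ⟨χ, HT.of_psi R hG {i} hψ' hψV hc hχ (classInner_symm_ne hne)⟩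

/-- the parabolic subgroups of rank 1 -/
theorem card_PJ_single [Finite W] [Finite Y] (i : I) :
    Nat.card ↥(PJ cs h T X {i}) =
      (1 + Nat.card (X (sr i))) * (Nat.card ↥(RGD.Sup X (RGD.Pos cs h)) * Nat.card ↥T) := by
  have hP : H35.Poin.APath A {i} (fun _ => i) 1 :=
    ⟨fun _ _ => rfl, fun t ht => absurd ht (by omega), fun s t _ _ => absurd (show False by omega) id,
      fun j hj h1 => absurd (Set.mem_singleton_iff.1 hj).symm (h1 0 (by norm_num)), fun s hs t ht _ => by omega⟩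
  have h1 := H35.Poin.card_PJ_path R hP (y := Nat.card (X (sr i))) (fun _ _ => rfl)
  have h2 : ({i} : Set I) \ {j | ∃ t < 1, (fun _ => i) t = j} = ∅ := by
    ext j
    simp only [Set.mem_sdiff, Set.mem_singleton_iff, Set.mem_ofPred_eq, Set.mem_empty_iff_false, iff_false, not_and,
      not_not]
    rintro rfl
    exact ⟨0, by norm_num, rfl⟩
  rw [h2, H35.Poin.PJ_empty, H35.Poin.card_B' R] at h1
  rw [h1]
  congr 1
  simp [Finset.sum_range_succ]

theorem card_PJ_ne [Finite W] [Finite Y] {i j : I} (hij : Nat.card (X (sr i)) ≠ Nat.card (X (sr j))) :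
    Nat.card ↥(PJ cs h T X {i}) ≠ Nat.card ↥(PJ cs h T X {j}) := by
  rw [card_PJ_single R, card_PJ_single R]
  intro e
  have h1 : 0 < Nat.card ↥(RGD.Sup X (RGD.Pos cs h)) * Nat.card ↥T := Nat.mul_pos Nat.card_pos Nat.card_pos
  have h2 := Nat.eq_of_mul_eq_mul_right h1 e
  omega

/-- **Three characters from two nodes.** -/
theorem many_two_nodes [Finite W] [Finite Y] {p : ℕ} [Fact p.Prime] [Fact r.Prime] (hG : GG cs h T X = ⊤)
    (hTc : ∀ a ∈ T, ∀ b ∈ T, a * b = b * a) (hpr : p ≠ r) (Q : Subgroup Y) (hQ : IsPGroup p Q) (hQT : Q ≤ T)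
    (hC : ∀ u ∈ RGD.Sup X (RGD.Pos cs h), (∀ q ∈ Q, q * u = u * q) → u = 1) {i j : I}
    (hi : 2 ≤ Nat.card (X (sr i))) (hj : 2 ≤ Nat.card (X (sr j)))
    (hij : Nat.card (X (sr i)) ≠ Nat.card (X (sr j))) {φ : Y → ℂ} (hφ : IsIrrCharacter Y φ)
    (hφp : p ∣ charDegree φ) (hφU : HasFix φ (RGD.Sup X (RGD.Pos cs h))) : Many p Y 3 := by
  obtain ⟨χ, hχ⟩ := exists_HT_single R hG hTc i hi
  obtain ⟨ψ, hψ⟩ := exists_HT_single R hG hTc j hj
  have h0 : HT cs h X φ ∅ := HT.empty hφ hφU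
  refine many_of_types R hG ![∅, {i}, {j}] ![φ, χ, ψ] ?_ ?_ ?_
  · intro k
    fin_cases k
    · exact h0
    · exact hχ
    · exact hψ
  · intro k
    fin_cases k
    · exact hφp
    · exact hχ.dvd_degree R hpr Q hQ hQT hC (Set.singleton_nonempty i)
    · exact hψ.dvd_degree R hpr Q hQ hQT hC (Set.singleton_nonempty j)
  · intro k l hkl
    fin_cases k <;> fin_cases l
    · exact absurd hkl (by decide)
    · right; simp
    · right; simp
    · exact absurd hkl (by decide)
    · exact absurd hkl (by decide)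
    · left; exact card_PJ_ne R hij
    · exact absurd hkl (by decide)
    · exact absurd hkl (by decide)
    · exact absurd hkl (by decide)

end Cfsg.Agent.H519.Dl
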