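import Cfsg.Agent.H113.PSU.Levi
import Cfsg.Agent.H950.UCount

/-!
# Arithmetic of the Harish-Chandra degrees of the unitary groups (helper519, for S4769)

`uu q i = q^i - (-1)^i`. `prod_dvd` : `∏_{i ≤ N} uu q i` divides every product of `N` consecutive `uu q i`.
`dg_mul` : `dg (hermF n) k * (q^(2k) - 1) = ∏_{n - 2k < i ≤ n} uu q i`.
-/

set_option autoImplicit false

namespace Cfsg.Agent.H519.Dl

open Cfsg Cfsg.Agent.H113.PSU.Levi Cfsg.Agent.H477.HC

universe u

section Arith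

variable {q : ℕ}

/-- consecutive products, over `ℤ` -/
theorem int_prod_dvd (x : ℤ) (N : ℕ) : ∀ m : ℕ, ∏ i ∈ Finset.range N, (x ^ (i + 1) - 1) ∣
    ∏ i ∈ Finset.range N, (x ^ (m + i + 1) - 1) := by
  induction N with
  | zero => intro m; simp
  | succ N ih =>
    intro m
    induction m with
    | zero => simp
    | succ m ihm =>
      obtain ⟨g, hg⟩ := ih (m + 1)
      obtain ⟨g', hg'⟩ := ihm
      have e1 : ∏ i ∈ Finset.range (N + 1), (x ^ (m + i + 1) - 1) =
          (∏ i ∈ Finset.range N, (x ^ (m + 1 + i + 1) - 1)) * (x ^ (m + 1) - 1) := by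
        rw [Finset.prod_range_succ']
        congr 1
        refine Finset.prod_congr rfl fun i _ => ?_
        congr 2
        ring
      refine ⟨x ^ (m + 1) * g + g', ?_⟩
      have e2 : x ^ (m + 1 + N + 1) - 1 = (x ^ (N + 1) - 1) * x ^ (m + 1) + (x ^ (m + 1) - 1) := by ring
      have e3 : ∏ i ∈ Finset.range (N + 1), (x ^ (m + 1 + i + 1) - 1) =
          (∏ i ∈ Finset.range N, (x ^ (m + 1 + i + 1) - 1)) * (x ^ (m + 1 + N + 1) - 1) := Finset.prod_range_succ _ _
      rw [e3, e2, mul_add, ← e1, hg', hg]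
      have e4 : ∏ i ∈ Finset.range (N + 1), (x ^ (i + 1) - 1) =
          (∏ i ∈ Finset.range N, (x ^ (i + 1) - 1)) * (x ^ (N + 1) - 1) := Finset.prod_range_succ _ _
      rw [e4]
      ring

theorem uu_natAbs (hq : 1 ≤ q) (i : ℕ) : uu q i = ((-(q : ℤ)) ^ i - 1).natAbs := by
  have h := uu_cast hq i
  have h1 : ((-(q : ℤ)) ^ i - 1) = (-1) ^ i * ((q : ℤ) ^ i - (-1) ^ i) := by
    have h2 : ((-1 : ℤ)) ^ i * (-1) ^ i = 1 := by rw [← mul_pow]; norm_num
    rw [neg_pow, mul_sub, h2]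
  rw [h1, Int.natAbs_mul, Int.natAbs_pow, Int.natAbs_neg, Int.natAbs_one, one_pow, one_mul, ← h]
  rfl

/-- consecutive products -/
theorem prod_dvd (hq : 1 ≤ q) (N m : ℕ) : ∏ i ∈ Finset.range N, uu q (i + 1) ∣
    ∏ i ∈ Finset.range N, uu q (m + i + 1) := by
  have h := int_prod_dvd (-(q : ℤ)) N m
  rw [← Int.natAbs_dvd_natAbs] at h
  have e : ∀ f : ℕ → ℤ, (∏ i ∈ Finset.range N, f i).natAbs = ∏ i ∈ Finset.range N, (f i).natAbs := by
    intro f
    exact map_prod Int.natAbsHom f _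
  rw [e, e] at h
  simpa only [uu_natAbs hq] using h

theorem isoNum_eq {a : ℕ} (ha : 1 ≤ a) : H950.isoNum q a = uu q (a - 1) * uu q a := by
  unfold H950.isoNum uu
  by_cases h : Even a
  · have h1 : ¬ Even (a - 1) := by
      intro h2
      obtain ⟨b, hb⟩ := h
      obtain ⟨c, hc⟩ := h2
      omega
    rw [if_pos h, if_pos h, if_neg h1, mul_comm]
  · have h1 : Even (a - 1) := by
      obtain ⟨b, hb⟩ := Nat.not_even_iff_odd.1 h
      exact ⟨b, by omega⟩
    rw [if_neg h, if_neg h, if_pos h1, mul_comm]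

/-- the window -/
theorem prod_isoNum {n k : ℕ} (hk : 2 * k ≤ n) : ∏ j ∈ Finset.range k, H950.isoNum q (n - 2 * j) =
    ∏ i ∈ Finset.range (2 * k), uu q (n - 2 * k + i + 1) := by
  induction k with
  | zero => simp
  | succ k ih =>
    rw [Finset.prod_range_succ, ih (by omega), isoNum_eq (by omega)]
    have e1 : 2 * (k + 1) = 2 * k + 1 + 1 := by ring
    rw [e1, Finset.prod_range_succ', Finset.prod_range_succ']
    have e2 : ∏ i ∈ Finset.range (2 * k), uu q (n - (2 * k + 1 + 1) + (i + 1 + 1) + 1) =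
        ∏ i ∈ Finset.range (2 * k), uu q (n - 2 * k + i + 1) := by
      refine Finset.prod_congr rfl fun i _ => ?_
      congr 1
      omega
    rw [e2, show n - (2 * k + 1 + 1) + (0 + 1) + 1 = n - 2 * k by omega,
      show n - (2 * k + 1 + 1) + 0 + 1 = n - 2 * k - 1 by omega]
    ring

/-- `uu` of an even index -/
theorem uu_two_mul (k : ℕ) : uu q (2 * k) = q ^ (2 * k) - 1 := by
  unfold uu
  rw [if_pos (even_two_mul k)]

theorem le_uu {i : ℕ} : q ^ i - 1 ≤ uu q i := by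
  unfold uu
  split_ifs <;> omega

end Arith

section Card

variable {F : Type u} [Field F] [Fintype F] {q : ℕ}

theorem card_Om (hq : Nat.card F = q ^ 2) {n k : ℕ} : Nat.card ((CForm.hermF F hq n).Om k) =
    Nat.card {W : Submodule F (Fin n → F) // Module.finrank F W = k ∧ (∀ u ∈ W, ∀ v ∈ W, hermForm n F q u v = 0)} := by
  refine Nat.card_congr (Equiv.subtypeEquivRight fun W => ?_)
  constructor
  · rintro ⟨h1, h2⟩
    exact ⟨h2, h1.2⟩
  · rintro ⟨h1, h2⟩
    exact ⟨⟨fun w hw => h2 w hw w hw, h2⟩, h1⟩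

/-- **the degree** -/
theorem dg_mul (hF : Fintype.card F = q ^ 2) (hq : Nat.card F = q ^ 2) {n k : ℕ} (hk0 : 0 < k) (hk : 2 * k ≤ n) :
    dg (CForm.hermF F hq n) k * uu q (2 * k) = ∏ i ∈ Finset.range (2 * k), uu q (n - 2 * k + i + 1) := by
  have h1 := H950.card_ti_eq hF hk
  rw [← card_Om hq, prod_isoNum hk] at h1
  rw [← h1]
  unfold dg
  rw [mul_assoc]
  congr 1
  rw [uu_two_mul, pow_mul, hq, ← Finset.prod_range_reflect]
  have h2 : ∏ j ∈ Finset.range k, ((q ^ 2) ^ (k - (k - 1 - j)) - 1) = ∏ j ∈ Finset.range k, ((q ^ 2) ^ (j + 1) - 1) := by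
    refine Finset.prod_congr rfl fun j hj => ?_
    rw [Finset.mem_range] at hj
    congr 2
    omega
  rw [h2]
  obtain ⟨k, rfl⟩ : ∃ j, k = j + 1 := ⟨k - 1, by omega⟩
  rw [Finset.prod_range_succ, Finset.prod_Ico_eq_prod_range]
  congr 1
  refine Finset.prod_congr (by congr 1) fun i _ => ?_
  rw [add_comm]

end Card

end Cfsg.Agent.H519.Dl
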