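import Cfsg.Agent.H519.Dl.Arith
import Cfsg.Agent.H113.PSU.Facts
import Cfsg.Agent.H246.Dl.Defs

/-!
# Degrees of characters of `PSU_n(q)` (helper519, for S4769)

`exists_ek` : for `2 ≤ k ≤ n/2` an irreducible character of `PSU_n(q)` of degree `e k`, `e k * t = dg k`, `t ∣ q + 1`;
different `k` give different degrees; `∏_{2 ≤ i < 2k} uu q i ∣ e k`.
-/

set_option autoImplicit false

namespace Cfsg.Agent.H519.Dl

open Cfsg Cfsg.Agent.H113.PSU.Levi Cfsg.Agent.H477.HC Cfsg.Agent.H113.PSU.Descent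

universe u

section Size

variable {q : ℕ}

/-- `2 (Y - 1)(Z - 1) ≥ Y Z - 1` -/
theorem size_aux {Y Z : ℕ} (hY : 4 ≤ Y) (hZ : 4 ≤ Z) : Y * Z - 1 ≤ 2 * ((Y - 1) * (Z - 1)) := by
  obtain ⟨y, rfl⟩ : ∃ y, Y = y + 4 := ⟨Y - 4, by omega⟩
  obtain ⟨z, rfl⟩ : ∃ z, Z = z + 4 := ⟨Z - 4, by omega⟩
  have e1 : y + 4 - 1 = y + 3 := by omega
  have e2 : z + 4 - 1 = z + 3 := by omega
  rw [e1, e2]
  have : 2 * ((y + 3) * (z + 3)) = (y + 4) * (z + 4) + (y * z + 2 * y + 2 * z + 2) := by ring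
  omega

/-- the window identity -/
theorem window_succ {n k : ℕ} (hk : 2 * (k + 1) ≤ n) :
    ∏ i ∈ Finset.range (2 * (k + 1)), uu q (n - 2 * (k + 1) + i + 1) =
      (∏ i ∈ Finset.range (2 * k), uu q (n - 2 * k + i + 1)) * (uu q (n - 2 * k - 1) * uu q (n - 2 * k)) := by
  rw [← prod_isoNum hk, ← prod_isoNum (by omega), Finset.prod_range_succ, isoNum_eq (by omega)]

/-- the numbers `d k` of the right size -/
structure DegSys (q n : ℕ) (d : ℕ → ℕ) : Prop where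
  eq : ∀ k, 0 < k → 2 * k ≤ n → d k * uu q (2 * k) = ∏ i ∈ Finset.range (2 * k), uu q (n - 2 * k + i + 1)

variable {n : ℕ} {d : ℕ → ℕ}

theorem DegSys.recur (h : DegSys q n d) {k : ℕ} (hk0 : 0 < k) (hk : 2 * (k + 1) ≤ n) :
    d (k + 1) * uu q (2 * (k + 1)) = d k * uu q (2 * k) * (uu q (n - 2 * k - 1) * uu q (n - 2 * k)) := by
  rw [h.eq (k + 1) (by omega) hk, h.eq k hk0 (by omega), window_succ hk]

theorem DegSys.pos (h : DegSys q n d) (hq : 2 ≤ q) {k : ℕ} (hk0 : 0 < k) (hk : 2 * k ≤ n) : 0 < d k := by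
  have h1 : 0 < ∏ i ∈ Finset.range (2 * k), uu q (n - 2 * k + i + 1) :=
    Finset.prod_pos fun i _ => uu_pos hq (by omega)
  rw [← h.eq k hk0 hk] at h1
  exact Nat.pos_of_mul_pos_right h1

theorem pow_ge_four (hq : 2 ≤ q) {a : ℕ} (ha : 2 ≤ a) : 4 ≤ q ^ a :=
  calc 4 = 2 ^ 2 := by norm_num
    _ ≤ q ^ 2 := Nat.pow_le_pow_left hq 2
    _ ≤ q ^ a := Nat.pow_le_pow_right (by omega) ha

/-- below the top -/
theorem DegSys.lt_of_lt (h : DegSys q n d) (hq : 2 ≤ q) {k : ℕ} (hk0 : 0 < k) (hk : 2 * (k + 1) < n) :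
    (q + 1) * d k < d (k + 1) := by
  have h1 := h.recur hk0 hk.le
  have hd := h.pos hq hk0 (by omega)
  have hY : 4 ≤ q ^ (2 * k) := pow_ge_four hq (by omega)
  have hZ : 4 ≤ q ^ 2 := pow_ge_four hq le_rfl
  have h2 := size_aux hY hZ
  rw [uu_two_mul, uu_two_mul, show 2 * (k + 1) = 2 * k + 2 by ring, pow_add] at h1
  have h3 : q ^ 2 - 1 ≤ uu q (n - 2 * k - 1) :=
    (Nat.sub_le_sub_right (Nat.pow_le_pow_right (by omega) (by omega)) 1).trans le_uu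
  have h4 : q ^ 3 + 1 ≤ uu q (n - 2 * k) := by
    rcases Nat.lt_or_ge 3 (n - 2 * k) with h5 | h5
    · refine le_trans ?_ le_uu
      have h6 : q ^ 4 ≤ q ^ (n - 2 * k) := Nat.pow_le_pow_right (by omega) h5
      have h7 : q ^ 4 = q ^ 3 * q := by ring
      have h8 : 8 ≤ q ^ 3 := by
        calc 8 = 2 ^ 3 := by norm_num
          _ ≤ q ^ 3 := Nat.pow_le_pow_left hq 3
      have h9 : q ^ 3 * 2 ≤ q ^ 3 * q := Nat.mul_le_mul_left _ hq
      omega
    · have h6 : n - 2 * k = 3 := by omega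
      rw [h6]
      unfold uu
      rw [if_neg (by decide)]
  have hpos : 0 < q ^ (2 * k) * q ^ 2 - 1 := by
    have : 4 * 4 ≤ q ^ (2 * k) * q ^ 2 := Nat.mul_le_mul hY hZ
    omega
  apply lt_of_mul_lt_mul_right _ (Nat.zero_le (q ^ (2 * k) * q ^ 2 - 1))
  rw [h1]
  calc (q + 1) * d k * (q ^ (2 * k) * q ^ 2 - 1)
      ≤ (q + 1) * d k * (2 * ((q ^ (2 * k) - 1) * (q ^ 2 - 1))) := Nat.mul_le_mul_left _ h2
    _ = d k * (q ^ (2 * k) - 1) * ((q ^ 2 - 1) * (2 * (q + 1))) := by ring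
    _ < d k * (q ^ (2 * k) - 1) * ((q ^ 2 - 1) * (q ^ 3 + 1)) := by
        apply Nat.mul_lt_mul_of_pos_left
        · apply Nat.mul_lt_mul_of_pos_left
          · obtain ⟨s, rfl⟩ : ∃ s, q = s + 2 := ⟨q - 2, by omega⟩
            have : (s + 2) ^ 3 + 1 = 2 * (s + 2 + 1) + (s ^ 3 + 6 * s ^ 2 + 10 * s + 3) := by ring
            omega
          · omega
        · apply Nat.mul_pos hd
          omega
    _ ≤ d k * (q ^ (2 * k) - 1) * (uu q (n - 2 * k - 1) * uu q (n - 2 * k)) :=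
        Nat.mul_le_mul_left _ (Nat.mul_le_mul h3 h4)

/-- the top -/
theorem DegSys.top_eq (h : DegSys q n d) {k : ℕ} (hk0 : 0 < k) (hk : 2 * (k + 1) = n) :
    d (k + 1) * (q ^ (2 * k) * q ^ 2 - 1) = d k * ((q ^ (2 * k) - 1) * (q ^ 2 - 1)) * (q + 1) := by
  have h1 := h.recur hk0 hk.le
  have e1 : n - 2 * k - 1 = 1 := by omega
  have e2 : n - 2 * k = 2 := by omega
  rw [e1, e2, uu_two_mul, uu_two_mul, show 2 * (k + 1) = 2 * k + 2 by ring, pow_add] at h1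
  rw [h1]
  have e3 : uu q 1 = q + 1 := by unfold uu; rw [if_neg (by decide), pow_one]
  have e4 : uu q 2 = q ^ 2 - 1 := uu_two_mul 1
  rw [e3, e4]
  ring

theorem DegSys.lt_top (h : DegSys q n d) (hq : 2 ≤ q) {k : ℕ} (hk0 : 0 < k) (hk : 2 * (k + 1) = n) :
    d k < d (k + 1) := by
  have hd := h.pos hq hk0 (by omega)
  have hY : 4 ≤ q ^ (2 * k) := pow_ge_four hq (by omega)
  have hZ : 4 ≤ q ^ 2 := pow_ge_four hq le_rfl
  have h2 := size_aux hY hZ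
  apply lt_of_mul_lt_mul_right _ (Nat.zero_le (q ^ (2 * k) * q ^ 2 - 1))
  rw [h.top_eq hk0 hk]
  have hpos : 0 < (q ^ (2 * k) - 1) * (q ^ 2 - 1) := Nat.mul_pos (by omega) (by omega)
  calc d k * (q ^ (2 * k) * q ^ 2 - 1) ≤ d k * (2 * ((q ^ (2 * k) - 1) * (q ^ 2 - 1))) := Nat.mul_le_mul_left _ h2
    _ = d k * ((q ^ (2 * k) - 1) * (q ^ 2 - 1)) * 2 := by ring
    _ < d k * ((q ^ (2 * k) - 1) * (q ^ 2 - 1)) * (q + 1) :=
        Nat.mul_lt_mul_of_pos_left (by omega) (Nat.mul_pos hd hpos)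

theorem DegSys.lt_succ (h : DegSys q n d) (hq : 2 ≤ q) {k : ℕ} (hk0 : 0 < k) (hk : 2 * (k + 1) ≤ n) :
    d k < d (k + 1) := by
  rcases hk.lt_or_eq with h1 | h1
  · have := h.lt_of_lt hq hk0 h1
    nlinarith
  · exact h.lt_top hq hk0 h1

theorem DegSys.mono (h : DegSys q n d) (hq : 2 ≤ q) {j k : ℕ} (hj : 0 < j) (hjk : j ≤ k) (hk : 2 * k ≤ n) :
    d j ≤ d k := by
  induction k, hjk using Nat.le_induction with
  | base => exact le_rfl
  | succ k hjk ih => exact (ih (by omega)).trans (h.lt_succ hq (by omega) hk).le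

/-- **sizes** -/
theorem DegSys.dich (h : DegSys q n d) (hq : 2 ≤ q) {j k : ℕ} (hj : 0 < j) (hjk : j < k) (hk : 2 * k ≤ n) :
    (q + 1) * d j < d k ∨ (2 * k = n ∧ k = j + 1) := by
  obtain ⟨k, rfl⟩ : ∃ k', k = k' + 1 := ⟨k - 1, by omega⟩
  rcases hk.lt_or_eq with h1 | h1
  · left
    exact lt_of_le_of_lt (Nat.mul_le_mul_left _ (h.mono hq hj (by omega) (by omega))) (h.lt_of_lt hq (by omega) h1)
  · rcases Nat.lt_or_ge j k with h2 | h2
    · left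
      obtain ⟨k, rfl⟩ : ∃ k', k = k' + 1 := ⟨k - 1, by omega⟩
      refine lt_trans ?_ (h.lt_top hq (by omega) h1)
      exact lt_of_le_of_lt (Nat.mul_le_mul_left _ (h.mono hq hj (by omega) (by omega)))
        (h.lt_of_lt hq (by omega) (by omega))
    · exact Or.inr ⟨h1, by omega⟩

/-- different degrees after descent -/
theorem DegSys.ne (h : DegSys q n d) (hq : 2 ≤ q) {j k : ℕ} (hj : 0 < j) (hjk : j < k) (hk : 2 * k ≤ n)
    {ej ek tj tk : ℕ} (hej : ej * tj = d j) (hek : ek * tk = d k) (htj : tj ∣ q + 1) (htk : tk ∣ q + 1) : ej ≠ ek := by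
  rintro rfl
  have hdk := h.pos hq (by omega) hk
  have hdj := h.pos hq hj (by omega)
  have he0 : 0 < ej := by
    rcases Nat.eq_zero_or_pos ej with h0 | h0
    · rw [h0, zero_mul] at hej; omega
    · exact h0
  have htj0 : 0 < tj := Nat.pos_of_dvd_of_pos htj (by omega)
  have htk0 : 0 < tk := Nat.pos_of_dvd_of_pos htk (by omega)
  rcases h.dich hq hj hjk hk with h1 | ⟨h1, rfl⟩
  · have h2 : tk ≤ q + 1 := Nat.le_of_dvd (by omega) htk
    have h3 : ej ≤ d j := by rw [← hej]; exact Nat.le_mul_of_pos_right _ htj0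
    have h4 : d k ≤ (q + 1) * d j := by
      rw [← hek, mul_comm]
      exact Nat.mul_le_mul h2 h3
    omega
  · have h2 := h.top_eq hj h1
    obtain ⟨u, hu⟩ := htk
    rw [← hek, ← hej, hu] at h2
    have h3 : (q ^ (2 * j) * q ^ 2 - 1) = (tj * u) * ((q ^ (2 * j) - 1) * (q ^ 2 - 1)) := by
      apply Nat.eq_of_mul_eq_mul_left (Nat.mul_pos he0 htk0)
      rw [h2]; ring
    have hY : 4 ≤ q ^ (2 * j) := pow_ge_four hq (by omega)
    have hZ : 4 ≤ q ^ 2 := pow_ge_four hq le_rfl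
    obtain ⟨y, hy⟩ : ∃ y, q ^ (2 * j) = y + 4 := ⟨q ^ (2 * j) - 4, by omega⟩
    obtain ⟨z, hz⟩ : ∃ z, q ^ 2 = z + 4 := ⟨q ^ 2 - 4, by omega⟩
    rw [hy, hz] at h3
    have e1 : (y + 4) * (z + 4) - 1 = (y + 3) * (z + 3) + (y + z + 6) := by
      have : (y + 4) * (z + 4) = (y + 3) * (z + 3) + (y + z + 6) + 1 := by ring
      omega
    rw [e1, show y + 4 - 1 = y + 3 by omega, show z + 4 - 1 = z + 3 by omega] at h3
    have h4 : (y + 3) * (z + 3) ∣ y + z + 6 :=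
      (Nat.dvd_add_right (dvd_refl _)).1 (by rw [h3]; exact dvd_mul_left _ _)
    have h5 := Nat.le_of_dvd (by omega) h4
    nlinarith

/-- divisors after descent -/
theorem DegSys.dvd (h : DegSys q n d) (hq : 2 ≤ q) {k : ℕ} (hk0 : 0 < k) (hk : 2 * k ≤ n) {e t : ℕ}
    (he : e * t = d k) (ht : t ∣ q + 1) {i : ℕ} (hi : 2 ≤ i) (hik : i < 2 * k) : uu q i ∣ e := by
  obtain ⟨c, hc⟩ := prod_dvd (show 1 ≤ q by omega) (2 * k) (n - 2 * k)
  rw [← h.eq k hk0 hk] at hc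
  obtain ⟨k, rfl⟩ : ∃ k', k = k' + 1 := ⟨k - 1, by omega⟩
  rw [show 2 * (k + 1) = 2 * k + 1 + 1 by ring, Finset.prod_range_succ] at hc
  have hpos : 0 < uu q (2 * k + 1 + 1) := uu_pos hq (by omega)
  have h1 : d (k + 1) = (∏ i ∈ Finset.range (2 * k + 1), uu q (i + 1)) * c := by
    apply Nat.eq_of_mul_eq_mul_right hpos
    rw [hc]; ring
  rw [Finset.prod_range_succ', show uu q (0 + 1) = q + 1 by unfold uu; rw [if_neg (by decide), zero_add, pow_one],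
    ← he] at h1
  obtain ⟨v, hv⟩ := ht
  have ht0 : 0 < t := by
    rcases Nat.eq_zero_or_pos t with h0 | h0
    · rw [h0, zero_mul] at hv; omega
    · exact h0
  have h2 : e = (∏ i ∈ Finset.range (2 * k), uu q (i + 1 + 1)) * (v * c) := by
    apply Nat.eq_of_mul_eq_mul_right ht0
    rw [h1, hv]; ring
  rw [h2]
  obtain ⟨i, rfl⟩ : ∃ i', i = i' + 1 + 1 := ⟨i - 2, by omega⟩
  exact (Finset.dvd_prod_of_mem (fun i => uu q (i + 1 + 1)) (Finset.mem_range.2 (by omega))).mul_right _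

/-- `r ∣ q` does not divide -/
theorem DegSys.not_dvd (h : DegSys q n d) {k : ℕ} (hk0 : 0 < k) (hk : 2 * k ≤ n) (hq : 2 ≤ q) {r : ℕ} (hr : r.Prime)
    (hrq : r ∣ q) {e t : ℕ} (he : e * t = d k) : ¬ r ∣ e := by
  intro h1
  have h2 : r ∣ ∏ i ∈ Finset.range (2 * k), uu q (n - 2 * k + i + 1) := by
    rw [← h.eq k hk0 hk, ← he]
    exact (h1.mul_right _).mul_right _
  obtain ⟨i, -, hi⟩ := (Prime.dvd_finsetProd_iff hr.prime _).1 h2
  exact H113.PSU.Facts.not_dvd_q hr (by omega) (by omega) hi hrq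

end Size

section Chars

variable {F : Type u} [Field F] [Fintype F] {q n : ℕ}

theorem degSys (hF : Fintype.card F = q ^ 2) (hq : Nat.card F = q ^ 2) :
    DegSys q n (fun k => dg (CForm.hermF F hq n) k) := ⟨fun _ hk0 hk => dg_mul hF hq hk0 hk⟩

/-- **the characters** -/
theorem exists_ek (hF : Fintype.card F = q ^ 2) (hq : Nat.card F = q ^ 2) (hn : 3 ≤ n) {k : ℕ} (hk : 2 ≤ k) (hkn : 2 * k ≤ n) :
    ∃ (η : PSU n F q → ℂ) (e t : ℕ), IsIrrCharacter _ η ∧ η 1 = e ∧ t ∣ q + 1 ∧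
      e * t = dg (CForm.hermF F hq n) k := by
  obtain ⟨c, hc⟩ := H113.PSU.Facts.hasCusU F q hq k hk
  obtain ⟨n', rfl⟩ : ∃ n', n = k + (k + n') := ⟨n - 2 * k, by omega⟩
  obtain ⟨χ, hχ, hχ1, hχz⟩ := gu_char (n' := n') hq hc
  obtain ⟨η, e, hη, he, he0, hed, hdt⟩ := exists_psu hF (by omega) hχ hχ1 hχz
  exact ⟨η, e, _, hη, he, hdt, Nat.mul_div_cancel' hed⟩

end Chars

end Cfsg.Agent.H519.Dl
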